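import Cfsg.Agent.Lib.SJ.ModA

/-! # First-order facts in the automorphism group of `J₂` -/

set_option autoImplicit false
set_option maxRecDepth 100000

namespace Cfsg.Lib.SJ.Md

open Cfsg.Lib.Calc Cfsg.Lib.T2 Cfsg.Lib.SG Cfsg.Lib.SH Subgroup

/-- square -/
def sq (t : W) : W := t ⊡ t
/-- `1` or `z` -/
def oz (t : W) : Fm := .or (.one t) (.eq t §7)
/-- in the four-group -/
def zm (t : W) : Fm := .or (.one t) (.or (.eq t §7) (.or (.eq t §8) (.eq t (§7 ⊡ §8))))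
/-- the lines on `z` -/
def pw : List W → Fm
  | [] => .tt
  | p :: l => .and (andM l fun q => .eq (p ⊡ q ⊡ p) (q ⊡ §7)) (pw l)
/-- the elements of `U₄` -/
def u4 : List W := [§0, §3, wA, §3 ⊡ wA]
/-- subgroup `k'` contains the derived group of subgroup `k`, and its involutions are conjugate to `z` -/
def dF (k k' : ℕ) : Fm := .and (.and (nrF k' (m.ws k) (m.ws k')) (andM (m.ws k) fun u => andM (m.ws k) fun v => .mem k' (kw u v)))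
  (.all k' 100 [] (.imp (.one (sq §100)) (.or (.one §100) (.ex k' 101 [(§7, §100)] .tt))))
/-- an element of order four -/
def o4 (k : ℕ) (t : W) : Fm := .and (.mem k t) (.and (.one (.pow t 4)) (.not (.one (sq t))))

/-- equations -/
def fE : Fm := andM [.one (sq §7), .not (.one §7), .eq (cw §10 §7) §8, .eq (cw §10 §8) (§7 ⊡ §8), tr §7 §8 §8, tr §11 §7 §7, .eq (cw §11 §8) §9,
  .one (sq §3), tr §3 §7 §7, tr §3 §8 §8, .eq (.inv §10 ⊡ wA ⊡ §10) (§3 ⊡ wA), pw [§8, §9, w3, w4, w5], .one (w4 ⊡ w5 ⊡ w3 ⊡ §9 ⊡ §8),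
  .one (cw §10 (cw §10 (w3 ⊡ §9)) ⊡ cw §10 (w3 ⊡ §9) ⊡ (w3 ⊡ §9)), .one (.pow §12 3), .not (.one §12), tr §12 §9 §9, tr §12 §8 §8,
  .not (.one §3), tr §3 wA wA, .one (.pow §13 3), .eq (cw §13 §7) §8, .eq (cw §13 §8) (§7 ⊡ §8),
  .eq (§9 ⊡ §3 ⊡ §9 ⊡ wA ⊡ (§9 ⊡ §3 ⊡ §9)) (wA ⊡ §8), .eq (§9 ⊡ (§3 ⊡ wA) ⊡ §9 ⊡ §3 ⊡ (§9 ⊡ (§3 ⊡ wA) ⊡ §9)) (§3 ⊡ §8),
  .eq (§9 ⊡ (§3 ⊡ wA) ⊡ §9 ⊡ wA ⊡ (§9 ⊡ (§3 ⊡ wA) ⊡ §9)) (wA ⊡ (§7 ⊡ §8))] id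
/-- more equations -/
def fF : Fm := andM [.not (tr §8 §9 §9), .eq §7 (.inv w3 ⊡ (§9 ⊡ w3 ⊡ §9)), .eq §7 (sq (w3 ⊡ w4)), .eq §7 (kw §17 (sq (§17 ⊡ §3))),
  .one (sq §8), .not (oz §8), .eq (cw §6 §8) §7, andM u4 fun u => .one (sq u), andM (§12 :: uG) fun u => .and (tr u §7 §7) (tr u §8 §8),
  .and (odF §7 [(§14, 2), (§15, 1)]) (eqM [(§14, §14), (§15, §15)]), nrF 11 [§10] uG, nrF 10 (m.ws 2) (m.ws 10),
  andM [§7, §8, §13] (.mem 6), .mem 10 §8, cmF (m.ws 6) wA, andM [§7, §3] (cmF (m.ws 12)), .all 12 100 [] (.one (sq §100)),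
  .all 6 100 [] (.or (.one (.pow §100 2)) (.or (.one (.pow §100 3)) (.one (.pow §100 5)))), dF 4 6,
  andM [(§13, §16, .pow §16 2 ⊡ §13 ⊡ .inv §16 ⊡ §13), (§16, §13 ⊡ .inv §16, .inv §13 ⊡ §16)] fun u =>
    .and (.eq u.1 (kw u.2.1 u.2.2)) (.and (tr u.2.1 §3 §3) (tr u.2.2 §3 §3))] id
/-- generators -/
def gn (k : W) (l : List W) (t : W) : Fm := .and (.and (.one (k ⊡ k)) (.not (.one k))) (.and (andM l fun a => .or (tr a §7 §7) (tr a k k))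
  (eqM [(§1, §1), (§2, §2), (§3, §3), (§4, §4), (§6, t)]))
/-- generation by centralisers -/
def fG : Fm := .and (gn §8 [§1, §2, §3, §4, §9, cw §10 §9, .inv (§9 ⊡ cw §10 §9) ⊡ §6] (§9 ⊡ cw §10 §9 ⊡ (.inv (§9 ⊡ cw §10 §9) ⊡ §6)))
  (gn §3 [§1, §2, §3, §4, §13, .inv §13 ⊡ §6] (§13 ⊡ (.inv §13 ⊡ §6)))
/-- normal subgroups of `C(z)` -/
def fN : Fm := .and (.all 2 100 [] (.or (orM (m.ws 10) fun d => .and (.not (oz (kw §100 d))) (.and (.mem 10 (kw §100 d)) (tr d §7 §7))) (.mem 10 §100)))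
  (.and (.all 10 100 [] (.or (oz §100) (.or (.and (.one (sq §100)) (.ex 2 101 [(§100, §8)] .tt)) (.ex 2 101 [(§100, §9 ⊡ §8)] .tt))))
    (.and (tr §14 §7 §7) (.eq (cw §14 (§9 ⊡ §8 ⊡ cw §14 (§9 ⊡ §8))) §8)))
/-- the orbits of `C(z)` on its class -/
def rp : List (ℕ × ℕ) := [(7, 1), (8, 2), (20, 4), (21, 3), (22, 5), (23, 5)]
/-- a new orbit -/
def st (a b c g h d : W) : Fm := .and (tr g §7 §7) (.and (.eq (cw h §7) a) (.and (.eq (cw h c) (cw g b)) (.eq d (a ⊡ cw g b ⊡ a))))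
/-- the class of `z` -/
def fQ : Fm := .and (.all 10 100 [] (.imp (.one (sq §100)) (.or (oz §100) (.ex 2 101 [(§100, §8)] (andM rp fun r => .lt 102 (cw (§6 ⊡ §101) §r.1)
    (orM rp fun p => .and (.one (.pow (§7 ⊡ §102) p.2)) (.ex 2 103 [(§p.1, §102)] .tt)))))))
  (andM [andM [§1, §2, §3, §4] fun a => tr a §7 §7, .eq (cw (.inv (§11 ⊡ §10)) §9) §7, .eq (cw (.inv (§11 ⊡ §10)) w3) §20,
    st §20 §20 §20 (.pow §14 2) (.inv §14 ⊡ .inv §15 ⊡ .inv §14 ⊡ §6 ⊡ §14 ⊡ §6 ⊡ §15 ⊡ .pow (.inv §14) 2) §21,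
    st §21 §20 §21 (§15 ⊡ .inv §14 ⊡ .inv §15) (§6 ⊡ §14 ⊡ §6 ⊡ .inv §14 ⊡ §6 ⊡ §15) §22,
    st §20 §22 §20 (§14 ⊡ §15) (.inv §14 ⊡ .inv §15 ⊡ .inv §14 ⊡ §6 ⊡ §14 ⊡ §6 ⊡ .inv §14 ⊡ §15) §23] id)

/-- the outer involution, and the Sylow subgroup -/
def fS : Fm := andM [imF §99 [(§7, §7), (§3, §3), (§17, §17), (§8, §7 ⊡ §8)], cmF (m.ws 1) §7, cmF (m.ws 8) §7, nrF 10 (m.ws 1) (m.ws 10), dF 5 7,
  o4 3 (wA ⊡ §99), o4 5 (sq (§17 ⊡ §3)), o4 10 (§9 ⊡ §8), andM [§7, §8] (.mem 10), cenF 1 [§8] (.mem 9 §100),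
  .all 8 100 [] (.imp (.one (sq §100)) (.or (oz §100) (.or (.and (.mem 10 §100) (.ex 1 101 [(§8, §100)] .tt))
    (.or (.and (.mem 2 §100) (.ex 1 101 [(§3, §100)] .tt)) (.ex 1 101 [(§99, §100)] .tt)))))] id
/-- automorphisms fixing `z` -/
def fZ : Fm := andM [.all 9 100 [] (.imp (.eq (cw §100 §3) (cw §10 (cw §100 wA))) (.imp (andM uG fun u => zm (kw §100 u)) (tr §100 §3 §3))),
  cenF 9 (§12 :: uG) (zm §100), cenF 1 [§9, w3, w4, w5] (oz §100),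
  .all 1 100 [(§8, §9), (§9, §8 ⊡ §7), (w3 ⊡ w4, w3 ⊡ w4), (w4 ⊡ w5, w4 ⊡ w5)] (.and (.eq (sq §100) (§8 ⊡ §9)) (.not (.mem 2 §100))),
  cenF 9 [§3] (tr §100 wA wA), cenF 9 [§13, §16] (orM u4 (.eq (.pow §100 3)))] id
/-- embeddings of `C(z)` -/
def f3 : Fm := e3F 2 5 14 §7 [§0, §19 ⊡ §99, .pow (§19 ⊡ §99) 2, .pow (§19 ⊡ §99) 3] [⟨15, 2, [], .and (.one (.pow §100 3))
  (.and (.one (.pow (§14 ⊡ §100) 4)) (.not (.one (.pow (§14 ⊡ §100) 2)))), [§0, §14, .pow §14 2, .pow §14 3, .pow §14 4]⟩]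
/-- automorphisms fixing `a` -/
def fA : Fm := .and (.all 3 100 [] (.or (tr §100 wA wA) (tr §100 wA (§3 ⊡ wA)))) (cenF 3 [wA] (orM u4 fun u => .mem 6 (u ⊡ §100)))
/-- square roots of `a` -/
def fT : Fm := .all 3 100 [] (.imp (.eq (sq §100) §3) (.lt 102 §100 (.all 3 101 [(§102, §102)] (.imp (.one (sq §101 ⊡ sq §101))
  (.or (.one (sq §101)) (.eq (sq §101) §3))))))
/-- square roots of `z` and `y` -/
def fV : Fm := .all 9 100 [] (.imp (.eq (sq §100) §7) (.lt 102 §100 (.all 9 101 [(§102, §102)] (.imp (.eq (sq §101) §8) (.lt 103 §101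
  (.lt 104 (§8 ⊡ §102) (.lt 105 (§7 ⊡ §8 ⊡ §103) (.all 9 106 [(§104, §102), (§105, §103)] (.not .tt)))))))))

/-- the facts -/
structure Hy {J : Type*} [Group J] (γ : ℕ → J) (σ : MulAut J) : Prop where
  cx : Cx γ σ m.ws (blt · 13) N
  simple : IsSimpleGroup J
  card : Nat.card J = 604800
  top : genW γ [§1, §2, §3, §4, §6] = ⊤
  y1 : CY m.ws γ σ 1 §7
  y3 : CY m.ws γ σ 3 §3
  y5 : Cn (KK m.ws (dX γ σ) 5) σ
  j2 : CJ m.ws γ 2 §7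
  j4 : CJ m.ws γ 4 §3
  e : fE.holds (KK m.ws γ) γ
  f : fF.holds (KK m.ws γ) γ
  g : fG.holds (KK m.ws γ) γ
  n : fN.holds (KK m.ws γ) γ
  q : fQ.holds (KK m.ws γ) γ
  s : fS.holds (KK m.ws (dX γ σ)) (dX γ σ)
  z : fZ.holds (KK m.ws (dX γ σ)) (dX γ σ)
  e3 : f3.holds (KK m.ws (dX γ σ)) (dX γ σ)
  a : fA.holds (KK m.ws (dX γ σ)) (dX γ σ)
  t : fT.holds (KK m.ws (dX γ σ)) (dX γ σ)
  v : fV.holds (KK m.ws (dX γ σ)) (dX γ σ)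

theorem hE : fE.holds (KK m.ws γ) γ := hJ (by decide +kernel)
theorem hF : fF.holds (KK m.ws γ) γ := hJ (by decide +kernel)
theorem hG : fG.holds (KK m.ws γ) γ := hJ (by decide +kernel)
theorem hN : fN.holds (KK m.ws γ) γ := hJ (by decide +kernel)
theorem hQ : fQ.holds (KK m.ws γ) γ := hJ (by decide +kernel)
theorem hS : fS.holds (KK m.ws δ) δ := hA (by decide +kernel)
theorem hZ : fZ.holds (KK m.ws δ) δ := hA (by decide +kernel)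
theorem h3 : f3.holds (KK m.ws δ) δ := hA (by decide +kernel)
theorem ha : fA.holds (KK m.ws δ) δ := hA (by decide +kernel)
theorem hT : fT.holds (KK m.ws δ) δ := hA (by decide +kernel)
theorem hV : fV.holds (KK m.ws δ) δ := hA (by decide +kernel)
theorem hy : Hy γ σ := ⟨cx, simple, J.j2_card0, top, y1, y3, y5, j2', j4, hE, hF, hG, hN, hQ, hS, hZ, h3, ha, hT, hV⟩

end Cfsg.Lib.SJ.Md
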