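import Cfsg.Agent.Lib.SJ.Fx
import Cfsg.Agent.Lib.SG.Qs

/-! # Perfect central extensions of `J` with centre of odd order inside a group -/

set_option autoImplicit false

namespace Cfsg.Lib.SJ

open Subgroup Cfsg.Lib.Transfer Cfsg.Lib.SG
open MulAut (conj)

/-- a covering group `A` of `J` and the action of its normaliser on `J` -/
structure Qs (J G : Type*) [Group J] [Group G] where
  A : Subgroup G
  π : G → MulAut J
  mul : ∀ g ∈ normalizer (A : Set G), ∀ h ∈ normalizer (A : Set G), π (g * h) = π g * π h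
  inn : ∀ x ∈ A, Inn (π x)
  sur : ∀ a, ∃ x ∈ A, π x = conj a
  ker : ∀ g ∈ normalizer (A : Set G), π g = 1 ↔ g ∈ centralizer (A : Set G)
  odd : OD (A ⊓ centralizer (A : Set G))
  perf : A ≤ ⁅A, A⁆

variable {J G : Type*} [Group J] [Group G]

theorem exists_qs (F : Fb J) {A : Subgroup G} (ρ : A →* J) (hs : Function.Surjective ρ) (hk : ∀ x, ρ x = 1 → x.1 ∈ centralizer (A : Set G))
    (ho : OD (A ⊓ centralizer (A : Set G))) (hp : A ≤ ⁅A, A⁆) : ∃ S : Qs J G, S.A = A ∧ ∀ x : A, S.π x = conj (ρ x) := by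
  classical
  have h0 : ∀ κ : MulAut A, ∃ f : J →* J, ∀ x, f (ρ x) = ρ (κ x) := fun κ =>
    ⟨ρ.liftOfRightInverse _ (Function.rightInverse_surjInv hs) ⟨ρ.comp κ.toMonoidHom, fun x hx => F.cen1 (hs.forall.2 fun y => by
      obtain ⟨y, rfl⟩ := κ.surjective y
      change ρ (κ y) * ρ (κ x) = ρ (κ x) * ρ (κ y)
      rw [← map_mul, ← map_mul, ← map_mul, ← map_mul, show y * x = x * y from Subtype.ext (hk x hx y y.2)])⟩,
      fun x => ρ.liftOfRightInverse_comp_apply _ _ _ x⟩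
  choose f hf using h0
  have h1 : ∀ κ : MulAut A, ∃ α : MulAut J, ∀ x, α (ρ x) = ρ (κ x) := fun κ =>
    ⟨⟨⟨f κ, f κ⁻¹, hs.forall.2 fun x => by simp [hf], hs.forall.2 fun x => by simp [hf]⟩, map_mul _⟩, hf κ⟩
  choose φ hφ using h1
  let π : G → MulAut J := fun g => if h : g ∈ normalizer (A : Set G) then φ (A.normalizerMonoidHom ⟨g, h⟩) else 1
  have hπ : ∀ g (h : g ∈ normalizer (A : Set G)) (x : A), π g (ρ x) = ρ ⟨g * x * g⁻¹, nrm_of h x.2⟩ := fun g h x => by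
    simp only [π, dif_pos h, hφ]; rfl
  have h2 : ∀ x : A, π x = conj (ρ x) := fun x => MulEquiv.ext (hs.forall.2 fun y => by
    rw [hπ _ (le_normalizer x.2), MulAut.conj_apply, ← map_inv, ← map_mul, ← map_mul]; rfl)
  refine ⟨⟨A, π, fun g p h q => MulEquiv.ext (hs.forall.2 fun x => ?_), fun x hx => ⟨_, h2 ⟨x, hx⟩⟩, hs.forall.2 fun x => ⟨x, x.2, h2 x⟩,
    fun g p => ⟨fun e => ?_, fun e => MulEquiv.ext (hs.forall.2 fun x => ?_)⟩, ho, hp⟩, rfl, h2⟩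
  · rw [MulAut.mul_apply, hπ _ (mul_mem p q), hπ _ q, hπ _ p]; congr 2; group
  · have k : ∀ x ∈ A, x⁻¹ * (g * x * g⁻¹) ∈ A ⊓ centralizer (A : Set G) := fun x hx => ⟨A.mul_mem (A.inv_mem hx) (nrm_of p hx),
      hk ((⟨x, hx⟩ : A)⁻¹ * ⟨_, nrm_of p hx⟩) (by rw [map_mul, ← hπ g p ⟨x, hx⟩, e]; simp)⟩
    refine fun x hx => (mc1.1 ((commutator_le.2 fun a ha b hb => mc1.2 (cjf.1 (.trans ?_
      (cmz ((k a ha).2 b hb).symm ((k a ha).2 _ (k b hb).1).symm ((k b hb).2 a ha).symm))).symm : _ ≤ centralizer {g}) (hp hx)))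
    group
  · rw [hπ _ p]; exact congrArg ρ (Subtype.ext (cjf.2 (e x x.2).symm))

namespace Qs

variable (S : Qs J G) {g h k x y u : G} {a b c : J} {I : Subgroup G}

/-- the normaliser -/
def N : Subgroup G := normalizer (S.A : Set G)
/-- the centraliser -/
def K : Subgroup G := centralizer (S.A : Set G)
/-- `x` is a lift of `a` -/
def L (x : G) (a : J) : Prop := x ∈ S.A ∧ S.π x = conj a

theorem AN (p : x ∈ S.A) : x ∈ S.N := le_normalizer p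
theorem KN (p : x ∈ S.K) : x ∈ S.N := centralizer_le_normalizer _ p
theorem π1 (p : g ∈ S.N) : S.π g = 1 ↔ g ∈ S.K := S.ker g p
theorem πK (p : g ∈ S.K) : S.π g = 1 := (S.π1 (S.KN p)).2 p
theorem πm (p : g ∈ S.N) (q : h ∈ S.N) : S.π (g * h) = S.π g * S.π h := S.mul g p h q
/-- the action as a homomorphism -/
def φ : S.N →* MulAut J := .mk' (fun g => S.π g) fun g h => S.πm g.2 h.2
theorem π_one : S.π 1 = 1 := S.φ.map_one
theorem πi (p : g ∈ S.N) : S.π g⁻¹ = (S.π g)⁻¹ := S.φ.map_inv ⟨g, p⟩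
theorem πp (p : g ∈ S.N) (n : ℕ) : S.π (g ^ n) = S.π g ^ n := S.φ.map_pow ⟨g, p⟩ n
theorem πc (p : g ∈ S.N) (q : h ∈ S.N) : S.π (g * h * g⁻¹) = S.π g * S.π h * (S.π g)⁻¹ := by
  rw [S.πm (mul_mem p q) (inv_mem p), S.πm p q, S.πi p]
theorem π2 (p : u ∈ S.N) (q : u * u = 1) : S.π u * S.π u = 1 := by rw [← S.πm p p, q, S.π_one]
theorem πcm (F : Fb J) (p : g ∈ S.N) (q : h ∈ S.N) : Inn (S.π (g * h * g⁻¹ * h⁻¹)) := by
  rw [S.πm (mul_mem (mul_mem p q) (inv_mem p)) (inv_mem q), S.πc p q, S.πi q]; exact F.inn_comm _ _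
theorem πfix (F : Fb J) (p : g ∈ S.N) (q : h ∈ S.N) (e : S.π h = conj a) (c : g * h = h * g) : S.π g a = a :=
  F.cj_inj (by rw [← cj_cj, ← e, ← S.πc p q, cjf.2 c])
theorem cK (p : g ∈ S.N) (q : k ∈ S.K) : g * k * g⁻¹ ∈ S.K := cen_cj p q
theorem ex (p : x ∈ S.A) : ∃ a, S.L x a := (S.inn x p).imp fun _ e => ⟨p, e⟩
theorem ex' (a : J) : ∃ x, S.L x a := S.sur a
theorem L_one : S.L 1 1 := ⟨one_mem _, S.π_one.trans (map_one _).symm⟩

variable {S}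

theorem L.N (p : S.L x a) : x ∈ S.N := S.AN p.1
theorem L.K (p : S.L x a) (q : k ∈ S.K) : x * k = k * x := q x p.1
theorem L.mul (p : S.L x a) (q : S.L y b) : S.L (x * y) (a * b) := ⟨mul_mem p.1 q.1, by rw [S.πm p.N q.N, p.2, q.2, map_mul]⟩
theorem L.inv (p : S.L x a) : S.L x⁻¹ a⁻¹ := ⟨inv_mem p.1, by rw [S.πi p.N, p.2, map_inv]⟩
theorem L.pow (p : S.L x a) (n : ℕ) : S.L (x ^ n) (a ^ n) := ⟨pow_mem p.1 n, by rw [S.πp p.N, p.2, map_pow]⟩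
theorem L.cj (p : S.L x a) (q : g ∈ S.N) : S.L (g * x * g⁻¹) (S.π g a) := ⟨nrm_of q p.1, by rw [S.πc q p.N, p.2, cj_cj]⟩
theorem L.uniq (F : Fb J) (p : S.L x a) (q : S.L x b) : a = b := F.cj_inj (p.2.symm.trans q.2)
theorem L.dec (p : S.L x a) (q : g ∈ S.N) (e : S.π g = conj a) : x⁻¹ * g ∈ S.K :=
  (S.π1 (mul_mem (inv_mem p.N) q)).1 (by rw [S.πm (inv_mem p.N) q, S.πi p.N, p.2, e, inv_mul_cancel])
theorem L.one (p : S.L x 1) : x ∈ S.K := (S.π1 p.N).1 (p.2.trans (map_one _))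
theorem L.eq_one (F : Fb J) (p : S.L x a) (q : x ∈ S.K) : a = 1 := p.uniq F ⟨p.1, (S.πK q).trans (map_one _).symm⟩
theorem L.z (p : S.L x a) (q : S.L y a) : x⁻¹ * y ∈ S.A ⊓ S.K := ⟨S.A.mul_mem (S.A.inv_mem p.1) q.1, p.dec q.N q.2⟩
theorem L.mulK (p : S.L x a) (q : k ∈ S.A ⊓ S.K) : S.L (x * k) a := by
  simpa using p.mul ⟨q.1, (S.πK q.2).trans (map_one _).symm⟩

/-- the image in `J` -/
def im (S : Qs J G) (I : Subgroup G) : Subgroup J where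
  carrier := {a | ∃ x ∈ I, S.L x a}
  one_mem' := ⟨1, one_mem _, S.L_one⟩
  mul_mem' := fun ⟨_, p, q⟩ ⟨_, r, s⟩ => ⟨_, mul_mem p r, q.mul s⟩
  inv_mem' := fun ⟨_, p, q⟩ => ⟨_, inv_mem p, q.inv⟩

theorem le_of_im (h : S.im I = ⊤) : S.A ≤ I := S.perf.trans (commutator_le.2 fun x p y q => by
  obtain ⟨a, p⟩ := S.ex p
  obtain ⟨b, q⟩ := S.ex q
  obtain ⟨x', m, p'⟩ := h.ge (mem_top a)
  obtain ⟨y', n, q'⟩ := h.ge (mem_top b)
  have := cmz (q'.K (p'.z p).2).symm ((p'.z p).2 _ (q'.z q).1).symm (p'.K (q'.z q).2).symm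
  rw [mul_inv_cancel_left, mul_inv_cancel_left] at this
  rw [commutatorElement_def, this]
  exact mul_mem (mul_mem (mul_mem m n) (inv_mem m)) (inv_mem n))

theorem L.top (F : Fb J) (p : S.L x a) (a1 : a ≠ 1) (hx : x ∈ I) (h : S.A ≤ normalizer (I : Set G)) : S.A ≤ I := by
  have := F.simple
  refine le_of_im ((Normal.eq_bot_or_eq_top (H := S.im I) ⟨fun b ⟨y, m, q⟩ c => ?_⟩).resolve_left fun e => a1 (mem_bot.1 (e.le ⟨x, hx, p⟩)))
  obtain ⟨z, r⟩ := S.ex' c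
  exact ⟨_, nrm_of (h r.1) m, (r.mul q).mul r.inv⟩

/-- the projection -/
noncomputable def ρ (S : Qs J G) (F : Fb J) : S.A →* J :=
  .mk' (fun x => (S.ex x.2).choose) fun x y => (S.ex (x * y).2).choose_spec.uniq F ((S.ex x.2).choose_spec.mul (S.ex y.2).choose_spec)
theorem Lρ (S : Qs J G) (F : Fb J) (x : S.A) : S.L x (S.ρ F x) := (S.ex x.2).choose_spec
theorem L.ρ (F : Fb J) (p : S.L x a) : S.ρ F ⟨x, p.1⟩ = a := (S.Lρ F ⟨x, p.1⟩).uniq F p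
theorem ρ_sur (S : Qs J G) (F : Fb J) : Function.Surjective (S.ρ F) := fun a => let ⟨_, p⟩ := S.ex' a; ⟨_, p.ρ F⟩

/-- the image in the automorphism group -/
def ia (S : Qs J G) (Y : Subgroup G) : Subgroup (MulAut J) := (Y.subgroupOf S.N).map S.φ
theorem mem_ia {Y : Subgroup G} (h : Y ≤ S.N) (p : y ∈ Y) : S.π y ∈ S.ia Y := ⟨⟨y, h p⟩, p, rfl⟩
theorem card_ia {Y : Subgroup G} (h : Y ≤ S.N) : Nat.card Y = Nat.card ↥(Y ⊓ S.K) * Nat.card (S.ia Y) := by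
  rw [← card_mul_relIndex (inf_le_left : Y ⊓ S.K ≤ Y), inf_relIndex_left, ia, ← relIndex_ker, ← relIndex_subgroupOf h]
  congr 2
  exact Subgroup.ext fun g => (S.π1 g.2).symm

variable [Finite G]

theorem L.opow (p : S.L x a) (q : S.L y a) (y2 : y * y = 1) : ∃ m, x ^ (2 * m + 1) = y := by
  obtain ⟨m, e⟩ := S.odd.pow (q.z p)
  exact ⟨m, by rw [← mul_inv_cancel_left y x, Commute.mul_pow (q.K (q.z p).2), e, pow_odd y2, mul_one]⟩
theorem L.eq2 (p : S.L x a) (q : S.L y a) (x2 : x * x = 1) (y2 : y * y = 1) : x = y :=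
  let ⟨m, e⟩ := p.opow q y2; (pow_odd x2 m).symm.trans e
theorem L.invol (p : S.L x a) (h : a * a = 1) : ∃ m, S.L (x ^ (2 * m + 1)) a ∧ x ^ (2 * m + 1) * x ^ (2 * m + 1) = 1 := by
  obtain ⟨m, e⟩ := S.odd.pow (y := x * x) ⟨mul_mem p.1 p.1, (h ▸ p.mul p).one⟩
  exact ⟨m, pow_odd h m ▸ p.pow _, by rw [← (Commute.refl x).mul_pow, e]⟩
theorem ex2 (S : Qs J G) (h : a * a = 1) : ∃ x, S.L x a ∧ x * x = 1 := let ⟨_, p⟩ := S.ex' a; let ⟨_, q⟩ := p.invol h; ⟨_, q⟩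
theorem L.fix (q : S.L y b) (y2 : y * y = 1) (p : g ∈ S.N) (h : S.π g b = b) : g * y = y * g :=
  cjf.1 ((h ▸ q.cj p).eq2 q (cj2 y2 g) y2)
theorem L.comm (p : S.L x a) (q : S.L y b) (y2 : y * y = 1) (h : a * b = b * a) : x * y = y * x :=
  q.fix y2 p.N (by rw [p.2]; exact cjf.2 h)
theorem L.npow {n : ℕ} (p : S.L x a) (h : a ^ n = 1) : ∃ y ∈ zpowers x, S.L y a ∧ ∃ i, y ^ n ^ i = 1 := by
  obtain ⟨i, d, e⟩ := pw x n
  refine ⟨_, mul_mem (mem_zpowers x) (inv_mem (pow_mem (mem_zpowers x) _)), ?_, i, e⟩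
  simpa [pow_succ', pow_mul, h] using p.mul (p.pow (n ^ (d + 1))).inv

theorem lfix (S : Qs J G) (p : u ∈ S.N) (u2 : u * u = 1) (h : S.π u c = c) : ∃ x, S.L x c ∧ x * u = u * x := by
  obtain ⟨x, q⟩ := S.ex' c
  have z := q.z (h ▸ q.cj p)
  obtain ⟨m, e⟩ := S.odd.pow z
  refine ⟨_, q.mulK (pow_mem z (m + 1)), (cjf.1 ?_).symm⟩
  have k : u * (x⁻¹ * (u * x * u⁻¹)) * u⁻¹ = (x⁻¹ * (u * x * u⁻¹))⁻¹ := by simp [mul_assoc, inv2 u2, u2]
  rw [← conj_mul, ← conj_pow, k, ← mul_inv_cancel_left x (u * x * u⁻¹)]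
  generalize x⁻¹ * (u * x * u⁻¹) = z at e
  rw [inv_mul_cancel_left, mul_assoc, mul_right_inj, inv_pow, mul_inv_eq_iff_eq_mul, ← pow_add, show m + 1 + (m + 1) = 2 * m + 1 + 1 by ring,
    pow_succ, e, one_mul]

theorem dec2 (S : Qs J G) (F : Fb J) (p : u ∈ S.N) (u2 : u * u = 1) (h : Inn (S.π u)) :
    ∃ x a, S.L x a ∧ x * x = 1 ∧ a * a = 1 ∧ S.π u = conj a ∧ x * u ∈ S.K ∧ x * u = u * x := by
  obtain ⟨a, e⟩ := h
  have a2 : a * a = 1 := F.cj_inj (by rw [map_mul, ← e, S.π2 p u2, map_one])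
  obtain ⟨x, q, x2⟩ := S.ex2 a2
  exact ⟨x, a, q, x2, a2, e, inv2 x2 ▸ q.dec p e, (q.fix x2 p (by simp [e])).symm⟩

theorem inn_of (T : Qs J G) (F : Fb J) {d : J} (p : S.L x c) (q : S.L y d) (r : S.L u (c * d * c⁻¹ * d⁻¹)) (u2 : u * u = 1)
    (hx : x ∈ T.N) (hy : y ∈ T.N) : Inn (T.π u) := by
  obtain ⟨m, rfl⟩ := (((p.mul q).mul p.inv).mul q.inv).opow r u2
  rw [T.πp (mul_mem (mul_mem (mul_mem hx hy) (inv_mem hx)) (inv_mem hy))]
  exact (T.πcm F hx hy).pow _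

theorem exists_τ (S : Qs J G) (F : Fb J) {X : Subgroup J} (hX : IsPGroup 2 X) : ∃ τ : X →* G, ∀ a, S.L (τ a) a := by
  let f := (S.ρ F).subgroupComap X
  have hf : Function.Surjective f := MonoidHom.subgroupComap_surjective_of_surjective _ _ (S.ρ_sur F)
  obtain ⟨P⟩ : Nonempty (Sylow 2 (X.comap (S.ρ F))) := inferInstance
  have : Finite X := .of_surjective f hf
  let e := MulEquiv.ofBijective (f.comp (P : Subgroup (X.comap (S.ρ F))).subtype) ⟨(injective_iff_map_eq_one _).2 fun x p => by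
    obtain ⟨k, q⟩ := P.2 x
    have l := S.Lρ F x
    rw [show S.ρ F x = 1 from congrArg Subtype.val p] at l
    obtain ⟨m, r⟩ := S.odd.pow ⟨l.1, l.one⟩
    exact Subtype.ext (Subtype.ext (Subtype.ext (mem_bot.1 (mem_of_odd (k := k) (congrArg (·.1.1.1) q) (r ▸ one_mem _))))), fun a => by
    obtain ⟨x, p, q⟩ := ((P.mapSurjective hf).3 (hX.to_subgroup ⊤) le_top).le (mem_top a)
    exact ⟨⟨x, p⟩, q⟩⟩
  refine ⟨((S.A.subtype.comp (Subgroup.subtype _)).comp (Subgroup.subtype _)).comp e.symm.toMonoidHom, fun a => ?_⟩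
  exact (show S.ρ F (e.symm a) = a from congrArg Subtype.val (e.apply_symm_apply a)) ▸ S.Lρ F (e.symm a)

omit [Finite G] in
/-- the conjugate copy -/
def cj (S : Qs J G) (g : G) : Qs J G where
  A := g ⋆ S.A
  π h := S.π (g⁻¹ * h * g)
  mul h p k q := by
    rw [← conj_normalizer, mem_conj] at p q
    rw [← S.mul _ p _ q]; congr 1; group
  inn _ p := S.inn _ (mem_conj.1 p)
  sur a := let ⟨x, p, e⟩ := S.sur a; ⟨_, conj_mem_conj.2 p, by simpa [mul_assoc] using e⟩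
  ker h p := by
    rw [← conj_normalizer, mem_conj] at p
    rw [← conj_centralizer, mem_conj, S.ker _ p]
  odd x p e := by
    rw [← conj_centralizer, ← conj_inf, mem_conj] at p
    simpa [mul_assoc] using congrArg (fun y => g * y * g⁻¹) (S.odd _ p (by simpa using cj2 e g⁻¹))
  perf := conj_commutator g _ _ ▸ conj_mono g S.perf

omit [Finite G] in
theorem cj_K (S : Qs J G) : k ∈ (S.cj g).K ↔ g⁻¹ * k * g ∈ S.K := by rw [← mem_conj, K, K, conj_centralizer]; rfl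
omit [Finite G] in
theorem cj_N (S : Qs J G) : k ∈ (S.cj g).N ↔ g⁻¹ * k * g ∈ S.N := by rw [← mem_conj, N, N, conj_normalizer]; rfl

end Qs

end Cfsg.Lib.SJ
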