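import Cfsg.Agent.Lib.J1S.D
import Cfsg.Agent.Lib.SzV.Main

/-! # Standard `J₂`, the Suzuki group: Sylow `2`-subgroups of the centraliser of a four-group -/

set_option autoImplicit false
set_option linter.unusedSectionVars false

namespace Cfsg.Lib.SJ

open Subgroup Cfsg.Lib.BG Cfsg.Lib.RI Cfsg.Lib.UE Cfsg.Lib.Comp
open Cfsg.Lib.SzV (F4 ϖ Hz uc aa two0 expow ϖ0 cj_inv2)
open scoped Cfsg.Lib.Transfer

variable {G : Type*} [Group G] [Finite G] {A B D H K M N S X Y : Subgroup G} {g h l m p q s t v w x y : G} {ε : F4 → G}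
  {u : F4 → F4 → F4 → G} {a b c e f : F4}

/-- `t` centralises the four-group `ε` and `B ≅ A₅` and acts on the group `u` of order `64` -/
structure S0 (t s q : G) (ε : F4 → G) (u : F4 → F4 → F4 → G) (B : Subgroup G) : Prop extends Hz u where
  t2 : t * t = 1
  εa : ∀ e f, ε e * ε f = ε (e + f)
  ε1 : ε 1 ≠ 1
  sε : ∀ e, cj s (ε e) = ε (ϖ * e)
  tε : ∀ e, Commute t (ε e)
  εu : ∀ e a b c, Commute (ε e) (u a b c)
  st : Commute s t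
  tu : ∀ a b c, cj t (u a b c) = u b a (c + a * b)
  su : cj s (u 0 0 1) = u 0 0 ϖ
  qu : ∀ a b c, cj q (u a b c) = u (ϖ * a) (ϖ * b) (ϖ ^ 2 * c)
  qB : q ∈ B
  Bs : IsSimpleGroup B
  B60 : Nat.card B = 60
  Bt : B ≤ 𝐂[t]
  Bε : ∀ e, B ≤ 𝐂[ε e]
  rk : ∀ A, El A → A ≤ 𝐂[t] → Nat.card A ≤ 32
  cab : ∀ g, Two g → Commute g t → (∀ e, Commute g (ε e)) → ∃ e, ∃ c ∈ B, g = ε e * c ∨ g = t * (ε e * c)
  ca : ∀ g, Commute g t → Commute g (ε 1) → (∃ e, cj g (ε ϖ) = ε e) ∧ g ∈ 𝐍(B)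
  cza : ∀ g, Commute g t → Commute g (ε 1) → (∀ c, Commute g (u 0 0 c)) → Commute g (ε ϖ)
  cB : ∀ g, Two g → Commute g t → g ∈ 𝐂(B) → ∃ e, g = ε e ∨ g = t * ε e

namespace S0
variable (k : S0 t s q ε u B)
include k

theorem ε0 : ε 0 = 1 := by simpa using k.εa 0 0
theorem ε2 (e : F4) : ε e * ε e = 1 := by rw [k.εa, aa, k.ε0]
theorem εε (e f : F4) : Commute (ε e) (ε f) := by rw [Commute, SemiconjBy, k.εa, k.εa, add_comm]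
theorem sp (i : ℕ) (e : F4) : cj (s ^ i) (ε e) = ε (ϖ ^ i * e) := by
  induction i with
  | zero => simp
  | succ i j => rw [pow_succ', cj_mul', j, k.sε, pow_succ', mul_assoc]
theorem to1 (n : e ≠ 0) : ∃ i : ℕ, cj (s ^ i) (ε e) = ε 1 := let ⟨i, _, j⟩ := expow e 1 n one_ne_zero; ⟨i, by rw [k.sp, j]⟩
theorem εn (n : e ≠ 0) : ε e ≠ 1 := fun j => let ⟨_, i⟩ := k.to1 n; k.ε1 (by rw [← i, j, cj_one])
theorem inj1 (j : ε e * u a b c = 1) : e = 0 ∧ a = 0 ∧ b = 0 ∧ c = 0 := by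
  have i := congrArg (cj q) j
  rw [cj_mul, cj_c1 (k.Bε e k.qB), k.qu, cj_one, ← j, mul_right_inj] at i
  obtain ⟨rfl, rfl, rfl⟩ := (by decide +kernel : ∀ a b c : F4, ϖ * a = a ∧ ϖ * b = b ∧ ϖ ^ 2 * c = c → a = 0 ∧ b = 0 ∧ c = 0) a b c (k.inj i)
  exact ⟨by_contra fun n => k.εn n (by rwa [k.u0, mul_one] at j), rfl, rfl, rfl⟩
theorem mq (e a b c e' a' b' c' : F4) : ε e * u a b c * (ε e' * u a' b' c') = ε (e + e') * u (a + a') (b + b') (c + c' + a * b') := by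
  rw [(k.εu ..).symm.mul_mul_mul_comm, k.εa, k.mul]
theorem inj2 {e' a' b' c' : F4} (j : ε e * u a b c = ε e' * u a' b' c') : e = e' ∧ a = a' ∧ b = b' ∧ c = c' := by
  obtain rfl := CharTwo.add_eq_zero.1 (k.inj1 ((k.mq ..).symm.trans (by
    rw [j, ← k.inv, (k.εu ..).symm.mul_mul_mul_comm, k.ε2, mul_inv_cancel, one_mul] : ε e * u a b c * (ε e' * u a' b' (c' + a' * b')) = 1))).1
  exact ⟨rfl, k.inj (mul_left_cancel j)⟩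
theorem ct (a b c : F4) : cj (u a b c) t = t * u (a + b) (a + b) (b * b) := by
  rw [cj_inv2 k.t2, k.tu, k.inv, k.mul]; exact congrArg _ (uc u (add_comm _ _) rfl (by linear_combination (c + a * b) * two0))
theorem tz (c : F4) : Commute t (u 0 0 c) := cj_eq_iff.1 (by simp [k.tu])
theorem qq (a b c : F4) : ∃ a' b' c', u a b c = cj q (u a' b' c') * (u a' b' c')⁻¹ := by
  simp only [k.qu, k.inv, k.mul]
  obtain ⟨a', b', c', i, j, l⟩ := (by decide +kernel : ∀ a b c : F4, ∃ a' b' c' : F4, a = ϖ * a' + a' ∧ b = ϖ * b' + b' ∧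
    c = ϖ ^ 2 * c' + (c' + a' * b') + ϖ * a' * b') a b c
  exact ⟨a', b', c', uc u i j l⟩
theorem qz (c : F4) : ∃ c', u 0 0 c = cj q (u 0 0 c') * (u 0 0 c')⁻¹ :=
  ⟨ϖ ^ 2 * c, by rw [k.qu, k.i1, mul_zero, k.zz]; exact uc u rfl rfl (by revert c; decide +kernel)⟩
theorem cm (hq : q ∈ N) (n : x ∈ 𝐍(N)) : cj q x * x⁻¹ ∈ N := by simpa [cj, mul_assoc] using mul_mem hq (cjm n (inv_mem hq))
theorem zB (c : F4) : u 0 0 c ∈ B := let ⟨_, j⟩ := k.qz c; j ▸ k.cm k.qB (k.ca _ (k.tz _).symm (k.εu ..).symm).2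
theorem ZB : k.Z ≤ B := by rintro _ ⟨c, rfl⟩; exact k.zB c
theorem PN (hq : q ∈ N) (n : ∀ a b c, u a b c ∈ 𝐍(N)) : k.P ≤ N := by
  rintro _ ⟨a, b, c, rfl⟩; obtain ⟨_, _, _, j⟩ := k.qq a b c; exact j ▸ k.cm hq (n _ _ _)
theorem Bn (n : B ≤ 𝐍(N)) : B ≤ N ∨ N ⊓ B = ⊥ := by
  have := k.Bs
  exact (normal_subgroupOf_of_le_normalizer n).eq_bot_or_eq_top.symm.imp subgroupOf_eq_top.1 fun j => (subgroupOf_eq_bot.1 j).eq_bot
theorem BN (n : B ≤ 𝐍(N)) (m : u 0 0 1 ∈ N) : B ≤ N := (k.Bn n).resolve_right fun j => k.z1 one_ne_zero (j.le ⟨m, k.zB 1⟩)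
theorem sylB (h2 : IsPGroup 2 D) (l : D ≤ B) (l' : k.Z ≤ D) : D ≤ k.Z := by
  obtain ⟨n, j⟩ := IsPGroup.iff_card.1 h2
  have := card_dvd_of_le l
  rw [k.B60, j, show 60 = 4 * 15 from rfl] at this
  exact (eq_of_le_of_card_ge l' (by
    rw [j, k.cardZ]; exact Nat.le_of_dvd (by decide) (Nat.Coprime.dvd_of_dvd_mul_right (Nat.Coprime.pow_left _ (by decide)) this))).ge

/-- the four-group -/
def E : Subgroup G where
  carrier := {x | ∃ e, x = ε e}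
  mul_mem' := by rintro _ _ ⟨e, rfl⟩ ⟨f, rfl⟩; exact ⟨_, k.εa ..⟩
  one_mem' := ⟨0, k.ε0.symm⟩
  inv_mem' := by rintro _ ⟨e, rfl⟩; exact ⟨e, inv_eq_of_mul_eq_one_right (k.ε2 e)⟩

/-- the direct product -/
def Q : Subgroup G where
  carrier := {x | ∃ e a b c, x = ε e * u a b c}
  mul_mem' := by rintro _ _ ⟨_, _, _, _, rfl⟩ ⟨_, _, _, _, rfl⟩; exact ⟨_, _, _, _, k.mq ..⟩
  one_mem' := ⟨0, 0, 0, 0, by rw [k.ε0, k.u0, one_mul]⟩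
  inv_mem' := by
    rintro _ ⟨e, _, _, _, rfl⟩; exact ⟨e, _, _, _, by rw [mul_inv_rev, k.inv, inv_eq_of_mul_eq_one_right (k.ε2 e), (k.εu ..).eq]⟩

/-- an elementary abelian group of order `64` -/
def A1 : Subgroup G where
  carrier := {x | ∃ e a c, x = ε e * u a 0 c}
  mul_mem' := by rintro _ _ ⟨_, _, _, rfl⟩ ⟨_, _, _, rfl⟩; exact ⟨_, _, _, by rw [k.mq, add_zero]⟩
  one_mem' := ⟨0, 0, 0, by rw [k.ε0, k.u0, one_mul]⟩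
  inv_mem' := by
    rintro _ ⟨e, _, _, rfl⟩; exact ⟨e, _, _, by rw [mul_inv_rev, k.i1, inv_eq_of_mul_eq_one_right (k.ε2 e), (k.εu ..).eq]⟩

/-- the Sylow subgroup -/
def T : Subgroup G := k.Q ⊔ zpowers t

theorem mE (e : F4) : ε e ∈ k.E := ⟨e, rfl⟩
theorem E2 : El k.E := by rintro _ ⟨e, rfl⟩; exact k.ε2 e
theorem mC : x ∈ 𝐂(k.E) ↔ ∀ e, Commute x (ε e) := mc.trans ⟨fun j e => j _ (k.mE e), by rintro j _ ⟨e, rfl⟩; exact j e⟩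
theorem uC (a b c : F4) : u a b c ∈ 𝐂(k.E) := k.mC.2 fun _ => (k.εu ..).symm
theorem PC : k.P ≤ 𝐂(k.E) := by rintro _ ⟨a, b, c, rfl⟩; exact k.uC _ _ _
theorem tC : t ∈ 𝐂(k.E) := k.mC.2 k.tε
theorem BC : B ≤ 𝐂(k.E) := fun _ m => k.mC.2 fun e => mc1.1 (k.Bε e m)
theorem Ca : 𝐂(k.E) ≤ 𝐂[ε e] := cent_le_cent1 (k.mE e)
theorem sE : s ∈ 𝐍(k.E) := nm_of (by rintro _ ⟨e, rfl⟩; exact ⟨_, k.sε e⟩)
theorem nE (i : Commute g (ε 1)) (j : cj g (ε ϖ) ∈ k.E) : g ∈ 𝐍(k.E) := nm_of (by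
  rintro _ ⟨e, rfl⟩
  rcases SzV.cases4 e with rfl | rfl | rfl | rfl
  exacts [by rw [k.ε0, cj_one]; exact one_mem _, (cj_of_comm i).symm ▸ k.mE 1, j, by
    rw [show ϖ ^ 2 = 1 + ϖ by decide, ← k.εa, cj_mul, cj_of_comm i]; exact mul_mem (k.mE 1) j])
theorem caE (i : Commute g t) (j : Commute g (ε 1)) : g ∈ 𝐍(k.E) := k.nE j (k.ca g i j).1
theorem EQ : k.E ≤ k.Q := by rintro _ ⟨e, rfl⟩; exact ⟨e, 0, 0, 0, by rw [k.u0, mul_one]⟩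
theorem PQ : k.P ≤ k.Q := by rintro _ ⟨a, b, c, rfl⟩; exact ⟨0, a, b, c, by rw [k.ε0, one_mul]⟩
theorem QC : k.Q ≤ 𝐂(k.E) := by rintro _ ⟨e, a, b, c, rfl⟩; exact mul_mem (k.E2.cent (k.mE e)) (k.uC _ _ _)
theorem Q2 : IsPGroup 2 k.Q := pg_of (by rintro _ ⟨e, a, b, c, rfl⟩; exact two_mul (two_of_sq (k.ε2 e)) (k.two ..) (k.εu ..))
theorem tq (e a b c : F4) : cj t (ε e * u a b c) = ε e * u b a (c + a * b) := by rw [cj_mul, cj_of_comm (k.tε e), k.tu]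
theorem tQ : t ∈ 𝐍(k.Q) := nm_of (by rintro _ ⟨e, a, b, c, rfl⟩; exact ⟨_, _, _, _, k.tq ..⟩)
theorem mT : x ∈ k.T ↔ ∃ e a b c, x = ε e * u a b c ∨ x = t * (ε e * u a b c) := by
  rw [T, mem_sup_zp' k.tQ (k.t2 ▸ one_mem _)]
  exact ⟨fun j => j.elim (fun ⟨e, a, b, c, j⟩ => ⟨e, a, b, c, .inl j⟩) fun ⟨e, a, b, c, j⟩ => ⟨e, a, b, c, .inr (inv_mul_eq_iff_eq_mul.1 j)⟩,
    fun ⟨e, a, b, c, j⟩ => j.imp (⟨e, a, b, c, ·⟩) (⟨e, a, b, c, inv_mul_eq_iff_eq_mul.2 ·⟩)⟩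
theorem QT : k.Q ≤ k.T := le_sup_left
theorem PT : k.P ≤ k.T := k.PQ.trans k.QT
theorem tT : t ∈ k.T := zp_mem_sup
theorem T2 : IsPGroup 2 k.T := pg_sup_zp k.Q2 k.tQ (two_of_sq k.t2)
theorem TC : k.T ≤ 𝐂(k.E) := sup_le k.QC (zpowers_le.2 k.tC)
theorem ixT : Ix k.Q k.T := ix_sup_zp k.tQ (k.t2 ▸ one_mem _)
theorem sq2 (e a b c : F4) : t * (ε e * u a b c) * (t * (ε e * u a b c)) = u (b + a) (a + b) (a * b + b * b) := by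
  rw [← mul_assoc, ← cj_inv_inv k.t2, k.tq, k.mq, aa, k.ε0, one_mul]; exact uc u rfl rfl (by linear_combination c * two0)
theorem sqT (m : x ∈ k.T) : x * x ∈ k.P := by
  obtain ⟨e, a, b, c, rfl | rfl⟩ := k.mT.1 m
  exacts [⟨_, _, _, by rw [k.mq, aa, k.ε0, one_mul]⟩, ⟨_, _, _, k.sq2 ..⟩]

theorem nA (g : G) : cj g t ∉ k.A1 := fun m => by
  have el : El k.A1 := by rintro _ ⟨e, a, c, rfl⟩; rw [k.mq, aa, aa, aa, k.ε0, one_mul, mul_zero, add_zero, aa, k.u0]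
  have := k.rk _ (el.conj g⁻¹) (cj_le.2 fun x j => mc1.2 (commute_cj_left.2 (by rw [inv_inv]; exact el.comm j m)))
  rw [Transfer.card_conj, Hz.card_of (Q := k.A1) (fun p : F4 × F4 × F4 => ε p.1 * u p.2.1 0 p.2.2)
    (fun _ _ e => Prod.ext (k.inj2 e).1 (Prod.ext (k.inj2 e).2.1 (k.inj2 e).2.2.2))
    fun _ => ⟨fun ⟨a, b, c, e⟩ => ⟨(a, b, c), e⟩, fun ⟨p, e⟩ => ⟨_, _, _, e⟩⟩] at this
  exact absurd this (by decide)
theorem sqQ (j : ε e * u a b c * (ε e * u a b c) = 1) : u a b c * u a b c = 1 := by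
  rwa [(k.εu ..).symm.mul_mul_mul_comm, k.ε2, one_mul] at j
theorem nQ (g : G) : cj g t ∉ k.Q := fun ⟨e, a, b, c, j⟩ => by
  rcases k.of_sq (k.sqQ (j ▸ cj_mul_self k.t2 g)) with rfl | rfl
  exacts [k.nA (t * g) ⟨_, _, _, by rw [cj_mul', j, k.tq]⟩, k.nA g ⟨_, _, _, j⟩]
theorem t1 : t ≠ 1 := fun j => k.nQ 1 ((by simp [j] : 1 = cj 1 t) ▸ one_mem k.Q)
theorem invT (m : w ∈ k.T) (w2 : w * w = 1) : w ∈ k.Q ∨ ∃ e, ∃ p ∈ k.P, w = cj p (t * ε e) := by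
  obtain ⟨e, a, b, c, rfl | rfl⟩ := k.mT.1 m
  · exact .inl ⟨_, _, _, _, rfl⟩
  obtain rfl := CharTwo.add_eq_zero.1 (k.eq1 (k.sq2 .. ▸ w2)).1
  refine .inr ⟨e, _, k.mP (b + c * c) (c * c) 0, ?_⟩
  rw [cj_mul, k.ct, cj_of_comm (k.εu ..).symm, mul_assoc, ← (k.εu ..).eq]
  have := (by decide +kernel : ∀ b c : F4, b = b + c * c + c * c ∧ c = c * c * (c * c)) b c
  exact congrArg _ (congrArg _ (uc u this.1 this.1 this.2))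

end S0

/-- `t` is not conjugate to `t * ε 1` -/
structure Su (t s q : G) (ε : F4 → G) (u : F4 → F4 → F4 → G) (B : Subgroup G) : Prop extends S0 t s q ε u B where
  d1 : ∀ g, cj g t ≠ t * ε 1

namespace Su
variable (k : Su t s q ε u B)
include k

theorem d0 (j : cj g t = t * ε e) : e = 0 := by_contra fun n => let ⟨i, l⟩ := k.to1 n; k.d1 (s ^ i * g) (by
  rw [cj_mul', j, cj_mul, l, cj_of_comm (k.st.pow_left i)])
theorem cls (m : cj g t ∈ k.T) : ∃ p ∈ k.P, cj g t = cj p t := by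
  obtain ⟨e, p, i, j⟩ := (k.invT m (cj_mul_self k.t2 g)).resolve_left (k.nQ g)
  obtain rfl := k.d0 (g := p⁻¹ * g) (e := e) (by rw [cj_mul', j, cj_inv_cj])
  exact ⟨p, i, by rw [j, k.ε0, mul_one]⟩

theorem sylT : Syl 2 k.T 𝐂(k.E) := by
  obtain ⟨S, hS, l⟩ := Syl.exists_ge (pg_of (S := k.Z) (by rintro _ ⟨c, rfl⟩; exact k.two ..)) (le_inf (k.ZB.trans k.BC) (k.ZB.trans k.Bt))
  have cs : ∀ {x}, x ∈ 𝐂(k.E) ⊓ 𝐂[t] → x * x = 1 → S ≤ 𝐂[x] → x ∈ S := fun m x2 j =>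
    syl_mem hS m (two_of_sq x2) (cent_le_norm _ (le_cent1_iff.1 j))
  have tS := cs ⟨k.tC, self_mem_cent1 t⟩ k.t2 (hS.le.trans inf_le_right)
  have eS := fun e => cs ⟨k.E2.cent (k.mE e), mc1.2 (k.tε e).symm⟩ (k.ε2 e) (hS.le.trans (inf_le_left.trans k.Ca))
  refine syl_of_class hS k.T2 (fun g m => ?_) k.TC fun g _ n => (k.cls (cjm n k.tT)).imp fun p j => ⟨k.PT j.1, j.2⟩
  have z : ∀ c ∈ B, c ∈ S → ∃ d, c = u 0 0 d := fun c i j => k.sylB (pgroup_of_le hS.pgroup inf_le_left) inf_le_right (le_inf l k.ZB) ⟨j, i⟩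
  obtain ⟨e, c, i, j⟩ := k.cab g (two_of hS.pgroup m) (mc1.1 (hS.le m).2) (k.mC.1 (hS.le m).1)
  obtain ⟨d, rfl⟩ := z c i (j.elim (fun j => (mul_mem_cancel_left (eS e)).1 (j ▸ m)) fun j =>
    (mul_mem_cancel_left (eS e)).1 ((mul_mem_cancel_left tS).1 (j ▸ m)))
  exact k.mT.2 ⟨e, 0, 0, d, j⟩

theorem sylP : Syl 2 k.P ⁅𝐂(k.E), 𝐂(k.E)⁆ := by
  have PD : k.P ≤ ⁅𝐂(k.E), 𝐂(k.E)⁆ := by
    rintro _ ⟨a, b, c, rfl⟩; obtain ⟨_, _, _, j⟩ := k.qq a b c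
    exact j ▸ commutator_mem_commutator (k.BC k.qB) (k.uC _ _ _)
  have := Hall.inf_nml k.sylT (N := ⁅𝐂(k.E), 𝐂(k.E)⁆) ⟨commutator_le_self _, norm_comm (le_norm _) (le_norm _)⟩
  rwa [show k.T ⊓ ⁅𝐂(k.E), 𝐂(k.E)⁆ = k.P from le_antisymm (fun x m => ?_) (le_inf k.PT PD)] at this
  obtain ⟨e, a, b, c, rfl | rfl⟩ := k.mT.1 m.1
  · refine mul_mem (commutator_le.2 (fun x i y j => ?_) (R2.mem_der_syl k.sylT (k.QT (k.EQ (k.mE e))) (cent_symm le_rfl (k.mE e))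
      ((mul_mem_cancel_right (PD (k.mP ..))).1 m.2))) (k.mP ..)
    simpa [cj, commutatorElement_def, mul_assoc] using cjm (nm_of_sq (fun _ => k.sqT) le_rfl k.PT j) (cm_of_sq (fun _ => k.sqT) i j)
  · obtain ⟨g, i, j⟩ := tr2 k.sylT k.QT k.ixT (y := t * ε e) (by rw [(k.tε e).symm.mul_mul_mul_comm, k.t2, k.ε2, one_mul])
      (commutator_le.2 (fun x i y j => Ab_cm i j) ((mul_mem_cancel_right (PD (k.mP a b c))).1 (mul_assoc t _ _ ▸ m.2)))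
    rw [cj_mul, cj_c i (k.mE e), mul_mem_cancel_right (k.EQ (k.mE e))] at j
    exact absurd j (k.nQ g)

end Su

end Cfsg.Lib.SJ
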